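import Groth.Agent.AssPointLib.Push
import Groth.Agent.QCohLib.Coherent
import Groth.Agent.QCohLib.AffineFinite
import Mathlib

/-!
# Removing embedded associated points
-/

set_option autoImplicit false
set_option backward.isDefEq.respectTransparency false
set_option linter.style.haveILetI false

universe u

open CategoryTheory CategoryTheory.Limits AlgebraicGeometry TopologicalSpace Opposite DevissLib AssPointLib

noncomputable section

namespace EmbRemoveLib

variable {X : Scheme.{u}}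

/-- Maximal points of the support. -/
def IsMax (F : X.Modules) (y : X) : Prop :=
  y ∈ CohB1.support F ∧ ∀ z ∈ CohB1.support F, z ⤳ y → z = y

theorem specializes_antisymm' {x y : X} (h : x ⤳ y) (h' : y ⤳ x) : x = y :=
  (h.antisymm h').eq

/-- Near a maximal point, the support consists of its specializations. -/
theorem exists_nhd_max [IsLocallyNoetherian X] {F : X.Modules} [Coh.IsQCoh F] (hF : CohB1.IsFT F) {y : X}
    (hy : IsMax F y) : ∃ W : X.Opens, y ∈ W ∧ (∀ z ∈ W, z ∈ CohB1.support F → y ⤳ z) ∧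
      (∀ z ∈ W, Curv2.IsWeakAssPoint F z → z = y) := by
  obtain ⟨V, hV, hyV⟩ := QCohLib.exists_affine_nhd y
  let A := {z : X | z ∈ V ∧ Curv2.IsWeakAssPoint F z ∧ z ≠ y}
  have hA : A.Finite := (finite_assPoints hF V hV.isCompact).subset fun z hz => ⟨hz.1, hz.2.1⟩
  have hC : IsClosed (⋃ z ∈ A, closure ({z} : Set X)) := hA.isClosed_biUnion fun _ _ => isClosed_closure
  have hyC : y ∉ ⋃ z ∈ A, closure ({z} : Set X) := by
    intro h
    obtain ⟨z, hz, hzy⟩ := Set.mem_iUnion₂.mp h
    exact hz.2.2 (hy.2 z (weak_iff_mem_support hz.2.1) (specializes_iff_mem_closure.mpr hzy))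
  let W : X.Opens := V ⊓ ⟨(⋃ z ∈ A, closure ({z} : Set X))ᶜ, hC.isOpen_compl⟩
  have key : ∀ z ∈ W, Curv2.IsWeakAssPoint F z → z = y := fun z hz hw => by
    by_contra hne
    exact hz.2 (Set.mem_biUnion (show z ∈ A from ⟨hz.1, hw, hne⟩) (subset_closure rfl))
  refine ⟨W, ⟨hyV, hyC⟩, fun z hz hzs => ?_, key⟩
  obtain ⟨w, hwz, hw⟩ := exists_weak_of_mem_support hzs
  have hwW : w ∈ W := hwz.mem_open W.isOpen hz
  exact key w hwW hw ▸ hwz

/-- Every point of the support specializes from a maximal one. -/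
theorem exists_max [IsLocallyNoetherian X] {F : X.Modules} [Coh.IsQCoh F] (hF : CohB1.IsFT F) {x : X}
    (hx : x ∈ CohB1.support F) : ∃ y, y ⤳ x ∧ IsMax F y := by
  classical
  obtain ⟨V, hV, hxV⟩ := QCohLib.exists_affine_nhd x
  have hA := finite_assPoints hF V hV.isCompact
  let A' := hA.toFinset.filter (fun z => z ⤳ x)
  have hne : A'.Nonempty := by
    obtain ⟨z, hzx, hz⟩ := exists_weak_of_mem_support hx
    exact ⟨z, by simp only [A', Finset.mem_filter, Set.Finite.mem_toFinset, Set.mem_setOf_eq]; exact ⟨⟨hzx.mem_open V.isOpen hxV, hz⟩, hzx⟩⟩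
  obtain ⟨y, hy, hmin⟩ := A'.exists_min_image (fun z => (A'.filter (fun w => w ⤳ z)).card) hne
  have hy' := hy
  simp only [A', Finset.mem_filter, Set.Finite.mem_toFinset, Set.mem_setOf_eq] at hy'
  obtain ⟨⟨hyV, hyw⟩, hyx⟩ := hy'
  refine ⟨y, hyx, weak_iff_mem_support hyw, fun z hz hzy => ?_⟩
  obtain ⟨w, hwz, hw⟩ := exists_weak_of_mem_support hz
  have hwy : w ⤳ y := hwz.trans hzy
  have hwA : w ∈ A' := by
    simp only [A', Finset.mem_filter, Set.Finite.mem_toFinset, Set.mem_setOf_eq]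
    exact ⟨⟨(hwy.trans hyx).mem_open V.isOpen hxV, hw⟩, hwy.trans hyx⟩
  by_contra hne'
  have hne'' : w ≠ y := fun h => hne' (specializes_antisymm' hzy (h ▸ hwz))
  refine (hmin w hwA).not_gt (Finset.card_lt_card ?_)
  refine (Finset.ssubset_iff_of_subset fun v hv => ?_).mpr ⟨y, ?_, ?_⟩
  · rw [Finset.mem_filter] at hv ⊢
    exact ⟨hv.1, hv.2.trans hwy⟩
  · exact Finset.mem_filter.mpr ⟨hy, specializes_rfl⟩
  · rw [Finset.mem_filter]
    exact fun h => hne'' (specializes_antisymm' hwy h.2)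

/-- The embedded points. -/
def Emb (F : X.Modules) : Set X := {x | Curv2.IsWeakAssPoint F x ∧ ¬ IsMax F x}

/-- The open set free of embedded points. -/
def U (F : X.Modules) : X.Opens := ⟨(closure (Emb F))ᶜ, isClosed_closure.isOpen_compl⟩

theorem max_mem_U [IsLocallyNoetherian X] {F : X.Modules} [Coh.IsQCoh F] (hF : CohB1.IsFT F) {y : X}
    (hy : IsMax F y) : y ∈ U F := by
  obtain ⟨W, hyW, -, hW⟩ := exists_nhd_max hF hy
  intro h
  obtain ⟨z, hzW, hz⟩ := mem_closure_iff.mp h W W.isOpen hyW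
  exact hz.2 (hW z hzW hz.1 ▸ hy)

theorem isMax_of_weak_mem_U {F : X.Modules} {x : X} (hx : Curv2.IsWeakAssPoint F x) (hxU : x ∈ U F) :
    IsMax F x := by
  by_contra h
  exact hxU (subset_closure ⟨hx, h⟩)

/-- A section all of whose germs vanish. -/
theorem eq_zero_of_germs {M : X.Modules} {W : X.Opens} (s : Γ(M, W))
    (h : ∀ x, ∀ hx : x ∈ W, gm M x hx s = 0) : s = 0 :=
  TopCat.Presheaf.section_ext (⟨M.presheaf, M.isSheaf⟩ : TopCat.Sheaf AddCommGrpCat _) W _ _
    fun x hx => (h x hx).trans (gm_zero M x hx).symm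

theorem gm_eq_zero_of_notMem {M : X.Modules} {W : X.Opens} (s : Γ(M, W)) {x : X} (hx : x ∈ W)
    (h : x ∉ CohB1.support M) : gm M x hx s = 0 := by
  by_contra hne
  exact h ((mem_support_iff_nonzero M x).mpr ⟨_, hne⟩)

theorem gm_injective_of_mono {M N : X.Modules} (φ : M ⟶ N) [Mono φ] {W : X.Opens} {x : X} (hx : x ∈ W)
    (s : Γ(M, W)) (h : gm N x hx (φ.app W s) = 0) : gm M x hx s = 0 := by
  have : Mono ((St x).map φ) := inferInstance
  refine (ModuleCat.mono_iff_injective _).mp this ?_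
  rw [map_zero, ← h]
  exact gm_app φ x hx s

/-- The unit to the direct image of the restriction to `U F`. -/
abbrev unit (F : X.Modules) : F ⟶ (Scheme.Modules.pushforward (U F).ι).obj (F.restrict (U F).ι) :=
  (Scheme.Modules.restrictAdjunction (U F).ι).unit.app F

/-- The largest submodule supported away from `U F`. -/
abbrev K (F : X.Modules) : Subobject F := kernelSubobject (unit F)

theorem support_K {F : X.Modules} {x : X} (hx : x ∈ U F) : x ∉ CohB1.support (K F : X.Modules) := by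
  intro h
  obtain ⟨a, ha⟩ := (mem_support_iff_nonzero _ x).mp h
  obtain ⟨W, hxW, s, rfl⟩ := exists_gm_eq (K F : X.Modules) x a
  refine ha (gm_injective_of_mono (K F).arrow hxW s ?_)
  have h0 : (unit F).app W ((K F).arrow.app W s) = 0 :=
    congrArg (fun θ : (K F : X.Modules) ⟶ _ => θ.app W s) (kernelSubobject_arrow_comp (unit F))
  have hle : (U F).ι ''ᵁ ((U F).ι ⁻¹ᵁ W) ≤ W := (U F).ι.image_preimage_le W
  have hx' : x ∈ (U F).ι ''ᵁ ((U F).ι ⁻¹ᵁ W) := ⟨⟨x, hx⟩, hxW, rfl⟩
  rw [← gm_map F hle x hx']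
  have h1 : F.presheaf.map (homOfLE hle).op ((K F).arrow.app W s) = 0 := h0
  rw [h1, gm_zero]

theorem le_K {F : X.Modules} (K' : Subobject F) (h : ∀ x ∈ U F, x ∉ CohB1.support (K' : X.Modules)) :
    K' ≤ K F := by
  refine Subobject.le_mk_of_comm (kernel.lift _ K'.arrow ?_) (kernel.lift_ι _ _ _)
  apply Scheme.Modules.hom_ext
  intro W
  ext s
  refine eq_zero_of_germs (M := F) (W := (U F).ι ''ᵁ ((U F).ι ⁻¹ᵁ W))
    (F.presheaf.map (homOfLE ((U F).ι.image_preimage_le W)).op (K'.arrow.app W s)) fun x hx => ?_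
  rw [← QCohLib.app_map]
  obtain ⟨x', -, rfl⟩ := id hx
  rw [← gm_app, gm_eq_zero_of_notMem _ hx (h _ x'.2), map_zero]

/-- Weakly associated points of a restriction. -/
theorem weak_of_restrict {F : X.Modules} [Coh.IsQCoh F] (V : X.Opens) [Coh.IsQCoh (F.restrict V.ι)]
    {x : (V : Scheme)} (h : Curv2.IsWeakAssPoint (F.restrict V.ι) x) : Curv2.IsWeakAssPoint F (V.ι x) := by
  obtain ⟨W, hW, hxW⟩ := QCohLib.exists_affine_nhd x
  have hW' : IsAffineOpen (V.ι ''ᵁ W) := hW.image_of_isOpenImmersion V.ι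
  have hx' : V.ι x ∈ V.ι ''ᵁ W := ⟨x, hxW, rfl⟩
  obtain ⟨s, hs⟩ := (weak_iff hW hxW).mp h
  refine (weak_iff hW' hx').mpr ⟨s, ?_⟩
  let e : Γ((V : Scheme), W) ≃+* Γ(X, V.ι ''ᵁ W) := (V.ι.appIso W).commRingCatIsoToRingEquiv.symm
  have hann : ann Γ(X, V.ι ''ᵁ W) (show Γ(F, V.ι ''ᵁ W) from s) =
      (ann Γ((V : Scheme), W) s).comap e.symm.toRingHom := by
    ext r
    change r • (show Γ(F, V.ι ''ᵁ W) from s) = 0 ↔ (e.symm r : Γ((V : Scheme), W)) • s = 0
    have hr : (e.symm r : Γ((V : Scheme), W)) • s = r • (show Γ(F, V.ι ''ᵁ W) from s) := by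
      show ((V.ι.appIso W).inv (e.symm r) : Γ(X, V.ι ''ᵁ W)) • (show Γ(F, V.ι ''ᵁ W) from s) = _
      congr 1
      exact e.apply_symm_apply r
    rw [hr]
  have hp : (hW'.primeIdealOf ⟨V.ι x, hx'⟩).asIdeal =
      (hW.primeIdealOf ⟨x, hxW⟩).asIdeal.comap e.symm.toRingHom := by
    ext r
    rw [Ideal.mem_comap, ← not_iff_not, ← mem_basicOpen_iff hW' hx' r, ← mem_basicOpen_iff hW hxW]
    have hb : V.ι ''ᵁ (V : Scheme).basicOpen (e.symm r) = X.basicOpen r := by
      rw [Scheme.image_basicOpen]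
      congr 1
      exact e.apply_symm_apply r
    rw [← hb]
    exact ⟨fun ⟨y, hy, hyx⟩ => V.ι.isOpenEmbedding.injective hyx ▸ hy, fun hy => ⟨x, hy, rfl⟩⟩
  rw [hann, hp]
  rw [Ideal.comap_minimalPrimes_eq_of_surjective (f := e.symm.toRingHom) e.symm.surjective]
  exact ⟨_, hs, rfl⟩

theorem main [IsLocallyNoetherian X] (F : X.Modules) (hF : Coh.IsCoh F) :
    ∃ K : Subobject F, Coh.IsCoh (K : X.Modules) ∧
      (∀ U : X.Opens, (U : Set ↥X) ∩ CohB1.support F ⊆ CohB1.support (K : X.Modules) → (U : Set ↥X) ∩ CohB1.support F = ∅) ∧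
      (∀ K' : Subobject F, Coh.IsCoh (K' : X.Modules) →
        (∀ U : X.Opens, (U : Set ↥X) ∩ CohB1.support F ⊆ CohB1.support (K' : X.Modules) → (U : Set ↥X) ∩ CohB1.support F = ∅) →
        K' ≤ K) ∧
      CohB1.support (cokernel K.arrow) = CohB1.support F ∧
      (∀ x : ↥X, Curv2.IsAssPoint (cokernel K.arrow) x → ∀ y : ↥X, Curv2.IsAssPoint (cokernel K.arrow) y → y ⤳ x → y = x) ∧
      ∃ U : X.Opens, Dense (U : Set ↥X) ∧ CohB1.support F ⊆ closure ((U : Set ↥X) ∩ CohB1.support F) ∧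
        IsIso ((Scheme.Modules.restrictFunctor U.ι).map (cokernel.π K.arrow)) := by
  haveI : Coh.IsQCoh F := hF.1
  haveI : Coh.IsQCoh (F.restrict (U F).ι) := inferInstance
  have hP : Coh.IsQCoh ((Scheme.Modules.pushforward (U F).ι).obj (F.restrict (U F).ι)) :=
    QCohLib.isQCoh_pushforward _ _
  have hKc : Coh.IsCoh (K F : X.Modules) :=
    QCohLib.isCoh_of_iso (kernelSubobjectIso (unit F)).symm (QCohLib.isCoh_kernel (unit F) hF hP)
  have hQc : Coh.IsCoh (cokernel (K F).arrow) := QCohLib.isCoh_cokernel _ hKc.1 hF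
  haveI := hKc.1
  haveI := hQc.1
  have hKsupp : IsClosed (CohB1.support (K F : X.Modules)) := QCohLib.isClosed_support _ hKc.2
  have hcl : ∀ (S : Set X) (_ : IsClosed S) {y z : X}, y ∈ S → y ⤳ z → z ∈ S := fun S hS y z hy hyz =>
    hyz.mem_closed hS hy
  let T : ShortComplex X.Modules := ShortComplex.mk (K F).arrow (cokernel.π (K F).arrow) (cokernel.condition _)
  have hT : T.ShortExact :=
    { exact := ShortComplex.exact_of_g_is_cokernel _ (cokernelIsCokernel _)
      mono_f := inferInstanceAs (Mono (K F).arrow)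
      epi_g := inferInstanceAs (Epi (cokernel.π _)) }
  have hmaxQ : ∀ y, IsMax F y → y ∈ CohB1.support (cokernel (K F).arrow) := fun y hy => by
    rcases (weak_shortExact hT).1 (weak_of_maximal hy.1 hy.2) with h | h
    · exact (support_K (max_mem_U hF.2 hy) (weak_iff_mem_support h)).elim
    · exact weak_iff_mem_support h
  have hdense : CohB1.support F ⊆ closure ((CohB1.support (K F : X.Modules))ᶜ ∩ CohB1.support F) := fun x hx => by
    obtain ⟨y, hyx, hy⟩ := exists_max hF.2 hx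
    exact closure_mono (Set.singleton_subset_iff.mpr
      (show y ∈ (CohB1.support (K F : X.Modules))ᶜ ∩ CohB1.support F from ⟨support_K (max_mem_U hF.2 hy), hy.1⟩))
      hyx.mem_closure
  have hnd : ∀ V : X.Opens, (V : Set ↥X) ∩ CohB1.support F ⊆ CohB1.support (K F : X.Modules) →
      (V : Set ↥X) ∩ CohB1.support F = ∅ := fun V hV => by
    refine Set.eq_empty_of_forall_notMem fun x hx => ?_
    obtain ⟨z, hzV, hz⟩ := mem_closure_iff.mp (hdense hx.2) V V.isOpen hx.1
    exact hz.1 (hV ⟨hzV, hz.2⟩)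
  refine ⟨K F, hKc, hnd, fun K' hK' hK'nd => le_K K' fun x hxU hx => ?_, ?_, ?_, ?_⟩
  · haveI := hK'.1
    obtain ⟨y, hyx, hy⟩ := exists_weak_of_mem_support hx
    let T' : ShortComplex X.Modules := ShortComplex.mk K'.arrow (cokernel.π K'.arrow) (cokernel.condition _)
    have hT' : T'.ShortExact :=
      { exact := ShortComplex.exact_of_g_is_cokernel _ (cokernelIsCokernel _)
        mono_f := inferInstanceAs (Mono K'.arrow)
        epi_g := inferInstanceAs (Epi (cokernel.π _)) }
    have hmax : IsMax F y :=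
      isMax_of_weak_mem_U ((weak_shortExact hT').2 hy) (hyx.mem_open (U F).isOpen hxU)
    obtain ⟨W, hyW, hW, -⟩ := exists_nhd_max hF.2 hmax
    have h0 := hK'nd W fun z hz => hcl _ (QCohLib.isClosed_support _ hK'.2)
      (weak_iff_mem_support hy) (hW z hz.1 hz.2)
    exact (Set.eq_empty_iff_forall_notMem.mp h0 y) ⟨hyW, hmax.1⟩
  · refine Set.Subset.antisymm (support_epi (cokernel.π _)) fun x hx => ?_
    obtain ⟨y, hyx, hy⟩ := exists_max hF.2 hx
    exact hcl _ (QCohLib.isClosed_support _ hQc.2) (hmaxQ y hy) hyx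
  · let T₀ : ShortComplex X.Modules := ShortComplex.mk (K F).arrow (unit F) (kernelSubobject_arrow_comp _)
    have hT₀ : T₀.Exact := ShortComplex.exact_of_f_is_kernel _
      (IsLimit.ofIsoLimit (kernelIsKernel (unit F))
        (Fork.ext (kernelSubobjectIso (unit F)).symm (kernelSubobject_arrow' (unit F))))
    haveI : Mono (cokernel.desc (K F).arrow (unit F) (kernelSubobject_arrow_comp _)) := hT₀.mono_cokernelDesc
    let T₁ : ShortComplex X.Modules := ShortComplex.mk (cokernel.desc (K F).arrow (unit F) (kernelSubobject_arrow_comp _))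
      (cokernel.π _) (cokernel.condition _)
    have hT₁ : T₁.ShortExact :=
      { exact := ShortComplex.exact_of_g_is_cokernel _ (cokernelIsCokernel _)
        mono_f := inferInstanceAs (Mono (cokernel.desc _ _ _))
        epi_g := inferInstanceAs (Epi (cokernel.π _)) }
    have key : ∀ x, Curv2.IsAssPoint (cokernel (K F).arrow) x → IsMax F x := fun x hx => by
      obtain ⟨z, rfl, hz⟩ := exists_of_weak_push (U F).ι (F.restrict (U F).ι)
        ((weak_shortExact hT₁).2 ((assPoint_iff_weak _ _).mp hx))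
      exact isMax_of_weak_mem_U (weak_of_restrict (U F) hz) z.2
    exact fun x hx y hy hyx => (key x hx).2 y (key y hy).1 hyx
  · let U₀ : X.Opens := ⟨(CohB1.support (K F : X.Modules))ᶜ, hKsupp.isOpen_compl⟩
    refine ⟨U₀, ?_, hdense, ?_⟩
    · rw [dense_iff_inter_open]
      intro W hW ⟨x, hx⟩
      by_contra hne
      have hsub : W ⊆ CohB1.support (K F : X.Modules) := fun z hz => by
        by_contra hzK
        exact hne ⟨z, hz, hzK⟩
      have h0 := hnd ⟨W, hW⟩ (fun z hz => hsub hz.1)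
      exact (Set.eq_empty_iff_forall_notMem.mp h0 x) ⟨hx, support_mono (K F).arrow (hsub hx)⟩
    · have hz : (Scheme.Modules.restrictFunctor U₀.ι).map (K F).arrow = 0 := by
        apply Scheme.Modules.hom_ext
        intro W
        ext s
        have : (show Γ((K F : X.Modules), U₀.ι ''ᵁ W) from s) = 0 := eq_zero_of_germs _ fun x hx =>
          gm_eq_zero_of_notMem _ hx (by obtain ⟨x', -, rfl⟩ := hx; exact x'.2)
        show (K F).arrow.app (U₀.ι ''ᵁ W) (show Γ((K F : X.Modules), U₀.ι ''ᵁ W) from s) = _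
        rw [this, map_zero]
        rfl
      have hc := isColimitOfHasCokernelOfPreservesColimit (Scheme.Modules.restrictFunctor U₀.ι) (K F).arrow
      exact isIso_colimit_cocone_parallelPair_of_eq hz hc

end EmbRemoveLib
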